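import Groth.Prelude.Def_W4c1arstab1appArSing
import Groth.Agent.CommAlg4.ASInvolution
import Mathlib

/-!
# `k[[x, y]]/(y^2 - x^(r+1))` is free over `k[[x]]` on `1, y`
-/

set_option autoImplicit false

universe u

open MvPowerSeries

namespace Groth.Agent.ArSing15

variable {k : Type u} [Field k]

local notation "T" => MvPowerSeries (Fin 2) k

local notation "P" => PowerSeries k

/-- An exponent. -/
noncomputable def ex (i m : ℕ) : Fin 2 →₀ ℕ := Finsupp.single 0 i + Finsupp.single 1 m

@[simp] theorem ex_zero (i m : ℕ) : ex i m 0 = i := by simp [ex]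

@[simp] theorem ex_one (i m : ℕ) : ex i m 1 = m := by simp [ex]

theorem eq_ex (e : Fin 2 →₀ ℕ) : e = ex (e 0) (e 1) := by
  ext j; fin_cases j <;> simp

theorem ext_ex {f g : T} (h : ∀ i m, coeff (ex i m) f = coeff (ex i m) g) : f = g :=
  MvPowerSeries.ext fun e => by rw [eq_ex e]; exact h _ _

theorem ex_sub_zero (i m n : ℕ) : ex i m - Finsupp.single 0 n = ex (i - n) m := by
  ext j; fin_cases j <;> simp

theorem ex_sub_one (i m n : ℕ) : ex i m - Finsupp.single 1 n = ex i (m - n) := by
  ext j; fin_cases j <;> simp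

theorem coeff_X0_pow_mul (n i m : ℕ) (g : T) :
    coeff (ex i m) (X 0 ^ n * g) = if n ≤ i then coeff (ex (i - n) m) g else 0 := by
  classical
  rw [X_pow_eq, coeff_monomial_mul, one_mul, ex_sub_zero]
  simp only [Finsupp.single_le_iff, ex_zero]

theorem coeff_X1_pow_mul (n i m : ℕ) (g : T) :
    coeff (ex i m) (X 1 ^ n * g) = if n ≤ m then coeff (ex i (m - n)) g else 0 := by
  classical
  rw [X_pow_eq, coeff_monomial_mul, one_mul, ex_sub_one]
  simp only [Finsupp.single_le_iff, ex_one]

/-- Series in `x` inside `k[[x, y]]`. -/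
noncomputable def ι : P →ₐ[k] T :=
  PowerSeries.substAlgHom
    (PowerSeries.HasSubst.of_constantCoeff_zero
      (MvPowerSeries.constantCoeff_X (0 : Fin 2) : MvPowerSeries.constantCoeff
        (MvPowerSeries.X (0 : Fin 2) : MvPowerSeries (Fin 2) k) = 0))

theorem coeff_ι (a : P) (i m : ℕ) : coeff (ex i m) (ι a) = if m = 0 then PowerSeries.coeff i a else 0 := by
  classical
  rw [ι, PowerSeries.coe_substAlgHom, PowerSeries.coeff_subst_single, ex_zero]
  refine if_congr ⟨fun h => ?_, fun h => ?_⟩ rfl rfl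
  · have := congrArg (fun e : Fin 2 →₀ ℕ => e 1) h
    simpa using this
  · subst h
    ext j; fin_cases j <;> simp

theorem ι_X : ι (PowerSeries.X : P) = (X 0 : T) := PowerSeries.substAlgHom_X _

theorem coeff_pair (a b : P) (i m : ℕ) : coeff (ex i m) (ι a + X 1 * ι b) =
    if m = 0 then PowerSeries.coeff i a else if m = 1 then PowerSeries.coeff i b else 0 := by
  rw [map_add, coeff_ι, ← pow_one (X 1 : T), coeff_X1_pow_mul, coeff_ι]
  rcases m with _ | _ | m <;> simp

/-- Coefficients of the quotient by `y^2 - x^(r+1)`. -/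
noncomputable def quo (f : T) (r : ℕ) : ℕ → ℕ → k
  | i, m => coeff (ex i (m + 2)) f + if h : r + 1 ≤ i then quo f r (i - (r + 1)) (m + 2) else 0
termination_by i => i
decreasing_by omega

variable (k) in
/-- The `k[[x]]`-coordinates map. -/
noncomputable def pair (r : ℕ) (ab : P × P) : ArSing.ring k r :=
  ArSing.xMap k r ab.1 + ArSing.y k r * ArSing.xMap k r ab.2

theorem pair_eq (r : ℕ) (a b : P) : pair k r (a, b) = Ideal.Quotient.mk _ (ι a + X 1 * ι b) := by
  simp only [map_add, map_mul]
  rfl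

theorem coeff_mul_eqn (r i m : ℕ) (g : T) : coeff (ex i m) (ArSing.eqn k r * g) =
    (if 2 ≤ m then coeff (ex i (m - 2)) g else 0) - (if r + 1 ≤ i then coeff (ex (i - (r + 1)) m) g else 0) := by
  rw [ArSing.eqn, sub_mul, map_sub, coeff_X1_pow_mul, coeff_X0_pow_mul]

theorem pair_surjective (r : ℕ) : Function.Surjective (pair k r) := by
  intro z
  obtain ⟨f, rfl⟩ := Ideal.Quotient.mk_surjective z
  let g : T := fun e => quo f r (e 0) (e 1)
  have hg : ∀ i m, coeff (ex i m) g = quo f r i m := fun i m => by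
    show quo f r (ex i m 0) (ex i m 1) = _
    rw [ex_zero, ex_one]
  let R : T := f - ArSing.eqn k r * g
  refine ⟨(PowerSeries.mk fun i => coeff (ex i 0) R, PowerSeries.mk fun i => coeff (ex i 1) R), ?_⟩
  rw [pair_eq]
  symm
  refine Ideal.Quotient.eq.2 (Ideal.mem_span_singleton'.2 ⟨g, ?_⟩)
  refine ext_ex fun i m => ?_
  rw [map_sub, coeff_pair, mul_comm, coeff_mul_eqn]
  rcases m with _ | _ | m
  · simp [R, coeff_mul_eqn]
  · simp [R, coeff_mul_eqn]
  · rw [if_pos (show 2 ≤ m + 1 + 1 by omega), if_neg (show ¬ (m + 1 + 1 = 0) by omega),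
      if_neg (show ¬ (m + 1 + 1 = 1) by omega), sub_zero,
      show m + 1 + 1 - 2 = m by omega, hg i m, quo]
    split_ifs with h
    · rw [hg]; show _ = coeff (ex i (m + 2)) f; ring
    · simp

theorem pair_injective (r : ℕ) : Function.Injective (pair k r) := by
  rintro ⟨a, b⟩ ⟨a', b'⟩ h
  rw [pair_eq, pair_eq, Ideal.Quotient.eq, Ideal.mem_span_singleton'] at h
  obtain ⟨g, hg⟩ := h
  rw [mul_comm] at hg
  have hz : ∀ i m, coeff (ex i m) g = 0 := by
    intro i
    induction i using Nat.strong_induction_on with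
    | _ i ih =>
      intro m
      have := congrArg (coeff (ex i (m + 2))) hg
      rw [coeff_mul_eqn, if_pos (show 2 ≤ m + 2 by omega), map_sub, coeff_pair, coeff_pair] at this
      simp only [if_neg (show ¬ (m + 2 = 0) by omega), if_neg (show ¬ (m + 2 = 1) by omega), Nat.add_sub_cancel] at this
      by_cases h : r + 1 ≤ i
      · rw [if_pos h, ih (i - (r + 1)) (by omega)] at this
        simpa using this
      · rw [if_neg h] at this
        simpa using this
  have e : ι a + X 1 * ι b = ι a' + X 1 * ι b' := by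
    rw [← sub_eq_zero, ← hg, show g = 0 from ext_ex fun i m => by rw [hz, map_zero], mul_zero]
  refine Prod.ext (PowerSeries.ext fun i => ?_) (PowerSeries.ext fun i => ?_)
  · have := congrArg (coeff (ex i 0)) e
    rwa [coeff_pair, coeff_pair, if_pos rfl, if_pos rfl] at this
  · have := congrArg (coeff (ex i 1)) e
    rwa [coeff_pair, coeff_pair, if_neg one_ne_zero, if_neg one_ne_zero, if_pos rfl, if_pos rfl] at this

theorem xMap_X (r : ℕ) : ArSing.xMap k r PowerSeries.X = ArSing.x k r :=
  congrArg (Ideal.Quotient.mk _) ι_X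

theorem y_sq (r : ℕ) : ArSing.y k r * ArSing.y k r = ArSing.xMap k r (PowerSeries.X ^ (r + 1)) := by
  rw [map_pow, xMap_X, ← pow_two, ArSing.y, ArSing.x, ← map_pow, ← map_pow, Ideal.Quotient.eq]
  exact Ideal.mem_span_singleton_self _

theorem y_mul_pair (r : ℕ) (a b : P) :
    ArSing.y k r * pair k r (a, b) = pair k r (PowerSeries.X ^ (r + 1) * b, a) := by
  simp only [pair, map_mul]
  rw [← y_sq]
  ring

/-- `axis` as an algebra map. -/
noncomputable def axisA : T →ₐ[k] P :=
  { CommAlg4.DoubleLine.axis with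
    commutes' := fun c => by
      classical
      ext n
      show PowerSeries.coeff n (CommAlg4.DoubleLine.axis (algebraMap k T c)) = _
      rw [CommAlg4.DoubleLine.coeff_axis]
      simp [MvPowerSeries.algebraMap_apply, coeff_C, PowerSeries.algebraMap_apply, PowerSeries.coeff_C] }

theorem axisA_ι (a : P) : axisA (ι a) = a := by
  ext n
  show PowerSeries.coeff n (CommAlg4.DoubleLine.axis (ι a)) = _
  rw [CommAlg4.DoubleLine.coeff_axis, show Finsupp.single (0 : Fin 2) n = ex n 0 by simp [ex], coeff_ι, if_pos rfl]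

/-- An automorphism fixing `x` fixes `k[[x]]`. -/
theorem fix_xMap (r : ℕ) (σ : ArSing.ring k r ≃ₐ[k] ArSing.ring k r) (hx : σ (ArSing.x k r) = ArSing.x k r)
    (a : P) : σ (ArSing.xMap k r a) = ArSing.xMap k r a := by
  have hJ : Ideal.span ({ArSing.eqn k r} : Set T) ≤ RingHom.ker (MvPowerSeries.constantCoeff : T →+* k) := by
    rw [Ideal.span_le, Set.singleton_subset_iff]
    simp [ArSing.eqn]
  have key := CommAlg4.ASInvolution.hom_ext_quot hJ
    (σ.toAlgHom.comp ((ArSing.xMap k r).comp axisA)) ((ArSing.xMap k r).comp axisA) (fun i => by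
      fin_cases i
      · show σ (ArSing.xMap k r (CommAlg4.DoubleLine.axis (X 0))) = ArSing.xMap k r (CommAlg4.DoubleLine.axis (X 0))
        rw [CommAlg4.DoubleLine.axis_X0, xMap_X, hx]
      · show σ (ArSing.xMap k r (CommAlg4.DoubleLine.axis (X 1))) = ArSing.xMap k r (CommAlg4.DoubleLine.axis (X 1))
        rw [(CommAlg4.DoubleLine.axis_eq_zero_iff _).2 (Ideal.mem_span_singleton_self _), map_zero, map_zero])
  have := AlgHom.congr_fun key (ι a)
  simpa [axisA_ι] using this

end Groth.Agent.ArSing15
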