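import Groth.Agent.ArSing15.Basis
import Mathlib

/-!
# Parity decomposition of series, and maps between `A_r` rings in the coordinates `1, y`
-/

set_option autoImplicit false

universe u

open MvPowerSeries

namespace Groth.Agent.ArSing15

variable {k : Type u} [Field k]

local notation "T" => MvPowerSeries (Fin 2) k

local notation "P" => PowerSeries k

/-- Maps out of `A_r` on the subring `k[[x]]`. -/
theorem map_xMap {r r' : ℕ} (ψ : ArSing.ring k r →ₐ[k] ArSing.ring k r') (θ : P →ₐ[k] P)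
    (hX : ψ (ArSing.x k r) = ArSing.xMap k r' (θ PowerSeries.X)) (a : P) :
    ψ (ArSing.xMap k r a) = ArSing.xMap k r' (θ a) := by
  have hJ : Ideal.span ({ArSing.eqn k r'} : Set T) ≤ RingHom.ker (MvPowerSeries.constantCoeff : T →+* k) := by
    rw [Ideal.span_le, Set.singleton_subset_iff]
    simp [ArSing.eqn]
  have key := CommAlg4.ASInvolution.hom_ext_quot hJ
    (ψ.comp ((ArSing.xMap k r).comp axisA)) ((ArSing.xMap k r').comp (θ.comp axisA)) (fun i => by
      fin_cases i
      · show ψ (ArSing.xMap k r (CommAlg4.DoubleLine.axis (X 0))) =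
          ArSing.xMap k r' (θ (CommAlg4.DoubleLine.axis (X 0)))
        rw [CommAlg4.DoubleLine.axis_X0, xMap_X, hX]
      · show ψ (ArSing.xMap k r (CommAlg4.DoubleLine.axis (X 1))) =
          ArSing.xMap k r' (θ (CommAlg4.DoubleLine.axis (X 1)))
        rw [(CommAlg4.DoubleLine.axis_eq_zero_iff _).2 (Ideal.mem_span_singleton_self _)]
        simp)
  have := AlgHom.congr_fun key (ι a)
  simpa [axisA_ι] using this

/-- `a(-X)`. -/
noncomputable def Nm : P →ₐ[k] P :=
  { PowerSeries.rescale (-1 : k) with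
    commutes' := fun c => by
      show PowerSeries.rescale (-1 : k) (algebraMap k P c) = algebraMap k P c
      ext n
      rcases n with _ | n <;>
        simp [PowerSeries.coeff_rescale, PowerSeries.algebraMap_apply, PowerSeries.coeff_C] }

theorem coeff_Nm (a : P) (n : ℕ) : PowerSeries.coeff n (Nm a) = (-1 : k) ^ n * PowerSeries.coeff n a :=
  PowerSeries.coeff_rescale _ _ _

theorem Nm_X : Nm (PowerSeries.X : P) = -PowerSeries.X := by
  ext n
  rw [coeff_Nm, map_neg, PowerSeries.coeff_X]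
  split_ifs with h
  · simp [h]
  · simp

/-- `a(X^2)`. -/
noncomputable def Ex : P →ₐ[k] P :=
  PowerSeries.substAlgHom (PowerSeries.HasSubst.X_pow (R := k) two_ne_zero)

theorem Ex_X : Ex (PowerSeries.X : P) = PowerSeries.X ^ 2 := PowerSeries.substAlgHom_X _

theorem coeff_Ex (a : P) (n : ℕ) :
    PowerSeries.coeff n (Ex a) = if 2 ∣ n then PowerSeries.coeff (n / 2) a else 0 := by
  rw [Ex, PowerSeries.coe_substAlgHom, PowerSeries.coeff_subst_X_pow two_ne_zero]
  rfl

theorem coeff_Ex_two_mul (a : P) (n : ℕ) : PowerSeries.coeff (2 * n) (Ex a) = PowerSeries.coeff n a := by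
  rw [coeff_Ex, if_pos (dvd_mul_right 2 n), Nat.mul_div_cancel_left _ two_pos]

theorem coeff_Ex_odd (a : P) (n : ℕ) : PowerSeries.coeff (2 * n + 1) (Ex a) = 0 := by
  rw [coeff_Ex, if_neg (by omega)]

theorem coeff_X_Ex_two_mul (b : P) (n : ℕ) : PowerSeries.coeff (2 * n) (PowerSeries.X * Ex b) = 0 := by
  rcases n with _ | n
  · simp
  · rw [show 2 * (n + 1) = (2 * n + 1) + 1 by ring, PowerSeries.coeff_succ_X_mul, coeff_Ex_odd]

theorem coeff_X_Ex_odd (b : P) (n : ℕ) :
    PowerSeries.coeff (2 * n + 1) (PowerSeries.X * Ex b) = PowerSeries.coeff n b := by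
  rw [PowerSeries.coeff_succ_X_mul, coeff_Ex_two_mul]

theorem exists_parity (a : P) : ∃ e o : P, a = Ex e + PowerSeries.X * Ex o := by
  refine ⟨PowerSeries.mk fun n => PowerSeries.coeff (2 * n) a,
    PowerSeries.mk fun n => PowerSeries.coeff (2 * n + 1) a, PowerSeries.ext fun n => ?_⟩
  obtain ⟨j, rfl | rfl⟩ := Nat.even_or_odd' n
  · rw [map_add, coeff_Ex_two_mul, coeff_X_Ex_two_mul, PowerSeries.coeff_mk, add_zero]
  · rw [map_add, coeff_Ex_odd, coeff_X_Ex_odd, PowerSeries.coeff_mk, zero_add]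

theorem parity_inj {e o e' o' : P} (h : Ex e + PowerSeries.X * Ex o = Ex e' + PowerSeries.X * Ex o') :
    e = e' ∧ o = o' := by
  refine ⟨PowerSeries.ext fun n => ?_, PowerSeries.ext fun n => ?_⟩
  · have := congrArg (PowerSeries.coeff (2 * n)) h
    simpa [coeff_Ex_two_mul, coeff_X_Ex_two_mul] using this
  · have := congrArg (PowerSeries.coeff (2 * n + 1)) h
    rwa [map_add, map_add, coeff_Ex_odd, coeff_X_Ex_odd, coeff_Ex_odd, coeff_X_Ex_odd, zero_add, zero_add] at this

theorem Nm_Ex (a : P) : Nm (Ex a) = Ex a := by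
  ext n
  rw [coeff_Nm, coeff_Ex]
  split_ifs with h
  · rw [Even.neg_one_pow (even_iff_two_dvd.2 h), one_mul]
  · rw [mul_zero]

theorem Nm_parity (e o : P) : Nm (Ex e + PowerSeries.X * Ex o) = Ex e - PowerSeries.X * Ex o := by
  rw [map_add, map_mul, Nm_Ex, Nm_Ex, Nm_X]
  ring

theorem even_of_Nm_eq (h2 : (2 : k) ≠ 0) {a : P} (h : Nm a = a) : ∃ e, a = Ex e := by
  obtain ⟨e, o, rfl⟩ := exists_parity a
  rw [Nm_parity] at h
  refine ⟨e, ?_⟩
  have h' : (2 : k) • (PowerSeries.X * Ex o) = 0 := by rw [two_smul]; linear_combination -h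
  rw [(smul_eq_zero.1 h').resolve_left h2, add_zero]

theorem odd_of_Nm_eq_neg (h2 : (2 : k) ≠ 0) {a : P} (h : -Nm a = a) : ∃ o, a = PowerSeries.X * Ex o := by
  obtain ⟨e, o, rfl⟩ := exists_parity a
  rw [Nm_parity] at h
  refine ⟨o, ?_⟩
  have h' : (2 : k) • Ex e = 0 := by rw [two_smul]; linear_combination -h
  rw [(smul_eq_zero.1 h').resolve_left h2, zero_add]

theorem isUnit_two (h2 : (2 : k) ≠ 0) (r : ℕ) : IsUnit (2 : ArSing.ring k r) := by
  have := (isUnit_iff_ne_zero.2 h2).map (algebraMap k (ArSing.ring k r))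
  rwa [map_ofNat] at this

theorem x_mul_pair (r : ℕ) (a b : P) :
    ArSing.x k r * pair k r (a, b) = pair k r (PowerSeries.X * a, PowerSeries.X * b) := by
  simp only [pair, map_mul, xMap_X]
  ring

theorem x_mem_nonZeroDivisors (r : ℕ) : ArSing.x k r ∈ nonZeroDivisors (ArSing.ring k r) := by
  refine mem_nonZeroDivisors_iff_right.2 fun z hz => ?_
  obtain ⟨⟨a, b⟩, rfl⟩ := pair_surjective r z
  rw [mul_comm, x_mul_pair] at hz
  have h0 := pair_injective r (hz.trans (show (0 : ArSing.ring k r) = pair k r (0, 0) by simp [pair]))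
  have ha : a = 0 := (mul_eq_zero.1 (congrArg Prod.fst h0)).resolve_left PowerSeries.X_ne_zero
  have hb : b = 0 := (mul_eq_zero.1 (congrArg Prod.snd h0)).resolve_left PowerSeries.X_ne_zero
  simp [pair, ha, hb]

theorem pair_mul (r : ℕ) (a b c d : P) : pair k r (a, b) * pair k r (c, d) =
    pair k r (a * c + PowerSeries.X ^ (r + 1) * (b * d), a * d + b * c) := by
  simp only [pair, map_add, map_mul, ← y_sq]
  ring

variable (k) in
/-- The ideal `(x, y)`. -/
noncomputable def mI (r : ℕ) : Ideal (ArSing.ring k r) := Ideal.span {ArSing.x k r, ArSing.y k r}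

theorem pair_mem_mI_iff (r : ℕ) (a b : P) : pair k r (a, b) ∈ mI k r ↔ PowerSeries.constantCoeff a = 0 := by
  constructor
  · intro h
    obtain ⟨u, v, huv⟩ := Ideal.mem_span_pair.1 h
    obtain ⟨⟨a1, b1⟩, rfl⟩ := pair_surjective r u
    obtain ⟨⟨a2, b2⟩, rfl⟩ := pair_surjective r v
    rw [mul_comm, x_mul_pair, mul_comm (pair k r (a2, b2)), y_mul_pair] at huv
    have h1 : pair k r (PowerSeries.X * a1 + PowerSeries.X ^ (r + 1) * b2, PowerSeries.X * b1 + a2) =
        pair k r (a, b) := by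
      rw [← huv]
      simp only [pair, map_add]
      ring
    have h2 := congrArg Prod.fst (pair_injective r h1)
    simp only at h2
    rw [← h2]
    simp
  · intro h
    obtain ⟨a', rfl⟩ := PowerSeries.X_dvd_iff.2 h
    refine Ideal.mem_span_pair.2 ⟨ArSing.xMap k r a', ArSing.xMap k r b, ?_⟩
    simp only [pair, map_mul, xMap_X]
    ring

theorem isUnit_of_not_mem (r : ℕ) {u : ArSing.ring k r} (h : u ∉ mI k r) : IsUnit u := by
  obtain ⟨⟨a, b⟩, rfl⟩ := pair_surjective r u
  rw [pair_mem_mI_iff] at h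
  rw [pair_eq]
  refine IsUnit.map _ (MvPowerSeries.isUnit_iff_constantCoeff.2 ?_)
  have h1 : MvPowerSeries.constantCoeff (ι a + X 1 * ι b : T) = PowerSeries.constantCoeff a := by
    have := coeff_pair a b 0 0
    rw [if_pos rfl, show ex 0 0 = (0 : Fin 2 →₀ ℕ) by simp [ex]] at this
    rw [← MvPowerSeries.coeff_zero_eq_constantCoeff_apply, this, PowerSeries.coeff_zero_eq_constantCoeff_apply]
  rw [h1]
  exact isUnit_iff_ne_zero.2 h

theorem length_quot_mI (r : ℕ) : Module.length (ArSing.ring k r) (ArSing.ring k r ⧸ mI k r) = 1 := by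
  have : (mI k r).IsMaximal := by
    refine Ideal.isMaximal_iff.2 ⟨fun h => ?_, fun J x hJ hx hxJ => ?_⟩
    · have h1 : pair k r (1, 0) ∈ mI k r := by simpa [pair] using h
      simp [pair_mem_mI_iff] at h1
    · have := (isUnit_of_not_mem r hx)
      exact (Ideal.eq_top_iff_one J).1 (Ideal.eq_top_of_isUnit_mem J hxJ this)
  rw [Module.length_eq_one_iff]
  exact isSimpleModule_iff_isCoatom.2 this.out

theorem x_not_mem_mul (r : ℕ) (hr : 1 ≤ r) {z : ArSing.ring k r} (hz : z ∈ mI k r * mI k r) :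
    z ≠ ArSing.x k r := by
  have key : ∀ z ∈ mI k r * mI k r, ∃ a b, z = pair k r (PowerSeries.X ^ 2 * a, b) := by
    intro z hz
    induction hz using Submodule.mul_induction_on' with
    | mem_mul_mem u hu v hv =>
      obtain ⟨⟨a, b⟩, rfl⟩ := pair_surjective r u
      obtain ⟨⟨c, d⟩, rfl⟩ := pair_surjective r v
      rw [pair_mem_mI_iff] at hu hv
      obtain ⟨a', rfl⟩ := PowerSeries.X_dvd_iff.2 hu
      obtain ⟨c', rfl⟩ := PowerSeries.X_dvd_iff.2 hv
      refine ⟨a' * c' + PowerSeries.X ^ (r - 1) * (b * d), _, (pair_mul r _ _ _ _).trans (congrArg (pair k r) (Prod.ext ?_ rfl))⟩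
      show _ = PowerSeries.X ^ 2 * _
      rw [show r + 1 = r - 1 + 2 by omega, pow_add]
      ring
    | add u _ v _ hu hv =>
      obtain ⟨a, b, rfl⟩ := hu
      obtain ⟨c, d, rfl⟩ := hv
      exact ⟨a + c, b + d, by simp only [pair, map_add, map_mul]; ring⟩
  obtain ⟨a, b, rfl⟩ := key z hz
  intro h
  have h1 : pair k r (PowerSeries.X, 0) = ArSing.x k r := by simp [pair, xMap_X]
  have h2 := congrArg (fun p => PowerSeries.coeff 1 p.1) (pair_injective r (h.trans h1.symm))
  simp [PowerSeries.coeff_X_pow_mul'] at h2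

end Groth.Agent.ArSing15
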